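import Cfsg.Agent.Lib.J1.Spectrum

/-!
The first Janko group has order 175560 and is simple.
-/

set_option autoImplicit false

namespace Cfsg.Agent.Lib.J1.Order

open Matrix Cfsg.Agent.Lib.J1.Packed Cfsg.Agent.Lib.J1.Data Cfsg.Agent.Lib.J1.Checks
  Cfsg.Agent.Lib.J1.Spectrum

universe u

/-- Three commuting involutions give a factor eight of the order. -/
theorem eight_dvd {G : Type u} [Group G] [Finite G] {a b c : G} (ha : a ^ 2 = 1) (hb : b ^ 2 = 1)
    (hc : c ^ 2 = 1) (hab : a * b = b * a) (hac : a * c = c * a) (hbc : b * c = c * b)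
    (ha1 : a ≠ 1) (hb1 : b ≠ 1) (hab1 : a ≠ b) (hc1 : c ≠ 1) (hca : c ≠ a) (hcb : c ≠ b)
    (hcab : c ≠ a * b) : 8 ∣ Nat.card G := by
  classical
  haveI := Fact.mk Nat.prime_two
  set A : Subgroup G := Subgroup.closure {a, b, c} with hA
  haveI : IsMulCommutative A := Subgroup.isMulCommutative_closure (by
    rintro x (rfl | rfl | rfl) y (rfl | rfl | rfl) <;>
      first | rfl | assumption | exact hab.symm | exact hac.symm | exact hbc.symm)
  have hexp : ∀ x : A, x ^ 2 = 1 := by
    rintro ⟨x, hx⟩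
    apply Subtype.ext
    show x ^ 2 = 1
    induction hx using Subgroup.closure_induction with
    | mem y hy => rcases hy with rfl | rfl | rfl <;> assumption
    | one => exact one_pow 2
    | mul y z hy hz ihy ihz =>
      have hc' : Commute y z := congrArg Subtype.val (mul_comm' (⟨y, hy⟩ : A) ⟨z, hz⟩)
      rw [hc'.mul_pow, ihy, ihz, one_mul]
    | inv y _ ihy => rw [inv_pow, ihy, inv_one]
  obtain ⟨n, hn⟩ := (IsPGroup.iff_card).1 (fun x => ⟨1, by rw [pow_one]; exact hexp x⟩ : IsPGroup 2 A)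
  have hsub : ∀ x ∈ ({1, a, b, a * b, c} : Finset G), x ∈ A := by
    intro x hx
    simp only [Finset.mem_insert, Finset.mem_singleton] at hx
    rcases hx with rfl | rfl | rfl | rfl | rfl
    · exact A.one_mem
    · exact Subgroup.subset_closure (by simp)
    · exact Subgroup.subset_closure (by simp)
    · exact A.mul_mem (Subgroup.subset_closure (by simp)) (Subgroup.subset_closure (by simp))
    · exact Subgroup.subset_closure (by simp)
  have h5 : ({1, a, b, a * b, c} : Finset G).card = 5 := by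
    have h1 : a * b ≠ 1 := fun h => hab1 (by
      rw [eq_comm, ← mul_left_cancel_iff (a := a), h, ← sq, ha])
    have h2 : a * b ≠ a := fun h => hb1 (mul_left_cancel (h.trans (mul_one a).symm))
    have h3 : a * b ≠ b := fun h => ha1 (mul_right_cancel (h.trans (one_mul b).symm))
    rw [Finset.card_insert_of_notMem, Finset.card_insert_of_notMem, Finset.card_insert_of_notMem,
      Finset.card_insert_of_notMem, Finset.card_singleton]
    · simpa using fun h => hcab h.symm
    · simp only [Finset.mem_insert, Finset.mem_singleton, not_or]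
      exact ⟨h3.symm, hcb.symm⟩
    · simp only [Finset.mem_insert, Finset.mem_singleton, not_or]
      exact ⟨hab1, h2.symm, hca.symm⟩
    · simp only [Finset.mem_insert, Finset.mem_singleton, not_or]
      exact ⟨ha1.symm, hb1.symm, h1.symm, hc1.symm⟩
  have hle : 5 ≤ Nat.card A := by
    haveI := Fintype.ofFinite A
    rw [← h5, Nat.card_eq_fintype_card, ← Fintype.card_coe]
    exact Fintype.card_le_of_injective (fun x => (⟨x.1, hsub x.1 x.2⟩ : A))
      fun x y h => Subtype.ext (congrArg Subtype.val h :)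
  have h3 : 3 ≤ n := by
    by_contra h
    rw [hn] at hle
    interval_cases n <;> simp at hle
  refine (pow_dvd_pow 2 h3).trans ?_
  rw [← hn]
  exact Subgroup.card_subgroup_dvd_card A

/-- Words for three commuting involutions. -/
def invWords : List Bool × List Bool × List Bool :=
  ([false, true, false, true, false, true, false, true, false, true],
   [false, true, true, true, false, true, true, true, false, true, true, true],
   [false, false, true, false, true, false, false, false, true, false, true, false, false, false,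
    true, false, true, false, false, false, true, false, true, false, false, false, true, false,
    true, false])

/-- The matrices of the three involutions. -/
def invA : P7 := wordP invWords.1
/-- The matrices of the three involutions. -/
def invB : P7 := wordP invWords.2.1
/-- The matrices of the three involutions. -/
def invC : P7 := wordP invWords.2.2

theorem inv_eqs : eqb (mul invA invA) one ∧ eqb (mul invB invB) one ∧ eqb (mul invC invC) one ∧
    eqb (mul invA invB) (mul invB invA) ∧ eqb (mul invA invC) (mul invC invA) ∧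
    eqb (mul invB invC) (mul invC invB) := by decide +kernel

theorem inv_nes : toMat invA ≠ 1 ∧ toMat invB ≠ 1 ∧ toMat invA ≠ toMat invB ∧ toMat invC ≠ 1 ∧
    toMat invC ≠ toMat invA ∧ toMat invC ≠ toMat invB ∧ toMat invC ≠ toMat (mul invA invB) := by
  decide +kernel

theorem eight_dvd_card : 8 ∣ Nat.card Cfsg.Spor.J1 := by
  obtain ⟨a, ha, hav⟩ := exists_word invWords.1
  obtain ⟨b, hb, hbv⟩ := exists_word invWords.2.1
  obtain ⟨c, hc, hcv⟩ := exists_word invWords.2.2
  change a.1 = toMat invA at hav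
  change b.1 = toMat invB at hbv
  change c.1 = toMat invC at hcv
  have wa : Wf invA := wf_wordP _
  have wb : Wf invB := wf_wordP _
  have wc : Wf invC := wf_wordP _
  obtain ⟨e1, e2, e3, e4, e5, e6⟩ := inv_eqs
  have sq : ∀ {x : GL (Fin 7) (ZMod 11)} {m : P7}, x.1 = toMat m → Wf m → eqb (mul m m) one = true →
      x ^ 2 = 1 := fun {x m} hx hm h => Units.ext (by
    rw [Units.val_pow_eq_pow_val, hx, pow_two, ← toMat_mul hm hm, eq_of_eqb h, toMat_one, Units.val_one])
  have comm : ∀ {x y : GL (Fin 7) (ZMod 11)} {m k : P7}, x.1 = toMat m → y.1 = toMat k → Wf m → Wf k →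
      eqb (mul m k) (mul k m) = true → x * y = y * x := fun {x y m k} hx hy hm hk h => Units.ext (by
    rw [Units.val_mul, Units.val_mul, hx, hy, ← toMat_mul hm hk, eq_of_eqb h, toMat_mul hk hm])
  obtain ⟨n1, n2, n3, n4, n5, n6, n7⟩ := inv_nes
  refine eight_dvd (a := (⟨a, ha⟩ : Cfsg.Spor.J1)) (b := ⟨b, hb⟩) (c := ⟨c, hc⟩)
    (Subtype.ext (sq hav wa e1)) (Subtype.ext (sq hbv wb e2)) (Subtype.ext (sq hcv wc e3))
    (Subtype.ext (comm hav hbv wa wb e4)) (Subtype.ext (comm hav hcv wa wc e5))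
    (Subtype.ext (comm hbv hcv wb wc e6)) ?_ ?_ ?_ ?_ ?_ ?_ ?_ <;>
    intro h <;> have h' := congrArg (fun z : Cfsg.Spor.J1 => (z : GL (Fin 7) (ZMod 11)).1) h <;>
    simp only [Subgroup.coe_one, Units.val_one, Subgroup.coe_mul, Units.val_mul, hav, hbv, hcv] at h'
  exacts [n1 h', n2 h', n3 h', n4 h', n5 h', n6 h', n7 (h'.trans (toMat_mul wa wb).symm)]

theorem card_le : Nat.card Cfsg.Spor.J1 ≤ 175560 := by
  have h : ∀ g : Cfsg.Spor.J1, ∃ p : Fin 266 × Fin 660,
      (g : GL (Fin 7) (ZMod 11)).1 = toMat (rep p.1) * toMat (el p.2) := fun g => by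
    obtain ⟨i, hi, k, hk, he⟩ := exists_rep g.2
    exact ⟨⟨⟨i, hi⟩, ⟨k, hk⟩⟩, he⟩
  choose f hf using h
  have := Nat.card_le_card_of_injective f fun g g' hgg => by
    apply Subtype.ext; apply Units.ext
    rw [hf g, hf g', hgg]
  simpa using this

theorem natCard_J1 : Nat.card Cfsg.Spor.J1 = 175560 := by
  have h : ∀ n : ℕ, n ∈ ({1, 2, 3, 5, 6, 7, 10, 11, 15, 19} : Set ℕ) → n ∣ Nat.card Cfsg.Spor.J1 :=
    fun n hn => by
      obtain ⟨g, rfl⟩ := exists_orderOf n hn
      exact orderOf_dvd_natCard g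
  have h7 := h 7 (by simp)
  have h11 := h 11 (by simp)
  have h15 := h 15 (by simp)
  have h19 := h 19 (by simp)
  have hall : 175560 ∣ Nat.card Cfsg.Spor.J1 :=
    Nat.Coprime.mul_dvd_of_dvd_of_dvd (m := 9240) (n := 19) (by norm_num)
      (Nat.Coprime.mul_dvd_of_dvd_of_dvd (m := 840) (n := 11) (by norm_num)
        (Nat.Coprime.mul_dvd_of_dvd_of_dvd (m := 120) (n := 7) (by norm_num)
          (Nat.Coprime.mul_dvd_of_dvd_of_dvd (m := 8) (n := 15) (by norm_num) eight_dvd_card h15) h7)
        h11) h19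
  exact le_antisymm card_le (Nat.le_of_dvd Nat.card_pos hall)

/-- An isolated prime not dividing a normal subgroup forces congruences on its prime parts. -/
theorem part_modEq {G : Type u} [Group G] [Finite G] {p r : ℕ} [Fact p.Prime] [Fact r.Prime]
    (hne : p ≠ r) (hiso : ∀ g : G, orderOf g ≠ p * r) (N : Subgroup G) [N.Normal]
    (hpG : p ∣ Nat.card G) (hpN : ¬ p ∣ Nat.card N) (R : Sylow r N) :
    Nat.card R ≡ 1 [MOD p] := by
  classical
  set R' : Subgroup G := (R : Subgroup N).map N.subtype with hR'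
  have hsup : Subgroup.normalizer (R' : Set G) ⊔ N = ⊤ := Sylow.normalizer_sup_eq_top R
  have hp' : p ∣ Nat.card (Subgroup.normalizer (R' : Set G)) := by
    have h1 : p ∣ N.index := by
      rw [← Subgroup.card_mul_index N] at hpG
      exact ((Fact.out : p.Prime).dvd_mul.1 hpG).resolve_left hpN
    refine h1.trans ?_
    rw [Subgroup.index_eq_card]
    refine Subgroup.card_dvd_of_surjective
      ((QuotientGroup.mk' N).comp (Subgroup.normalizer (R' : Set G)).subtype) fun z => ?_
    obtain ⟨g, rfl⟩ := QuotientGroup.mk'_surjective N z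
    have hmem : g ∈ ((Subgroup.normalizer (R' : Set G) ⊔ N : Subgroup G) : Set G) := by
      rw [hsup]; trivial
    rw [Subgroup.mul_normal] at hmem
    obtain ⟨x, hx, m, hm, rfl⟩ := hmem
    exact ⟨⟨x, hx⟩, by simp [(QuotientGroup.eq_one_iff m).2 hm]⟩
  obtain ⟨⟨y, hy⟩, hyo⟩ := exists_prime_orderOf_dvd_card' p hp'
  rw [← Subgroup.orderOf_coe] at hyo
  haveI := Fintype.ofFinite R'
  let σ : Equiv.Perm R' :=
    { toFun := fun x => ⟨y * x.1 * y⁻¹, (Subgroup.mem_normalizer_iff.1 hy x.1).1 x.2⟩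
      invFun := fun x => ⟨y⁻¹ * x.1 * y, by
        have := (Subgroup.mem_normalizer_iff.1 (Subgroup.inv_mem _ hy) x.1).1 x.2
        simpa using this⟩
      left_inv := fun x => Subtype.ext (by simp [mul_assoc])
      right_inv := fun x => Subtype.ext (by simp [mul_assoc]) }
  have hσk : ∀ (k : ℕ) (x : R'), ((σ ^ k) x).1 = y ^ k * x.1 * (y ^ k)⁻¹ := by
    intro k
    induction k with
    | zero => intro x; simp
    | succ k ih =>
      intro x
      rw [pow_succ', Equiv.Perm.mul_apply]
      show y * ((σ ^ k) x).1 * y⁻¹ = _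
      rw [ih]; group
  have hσ : σ ^ p ^ 1 = 1 := by
    ext x
    rw [pow_one, hσk, show y ^ p = 1 from hyo ▸ pow_orderOf_eq_one y]
    simp
  have h := Equiv.Perm.card_compl_support_modEq hσ
  have hfix : σ.supportᶜ = {1} := by
    ext x
    simp only [Finset.mem_compl, Equiv.Perm.mem_support, not_not, Finset.mem_singleton]
    constructor
    · intro hx
      by_contra hx1
      have hc : Commute y x.1 := mul_inv_eq_iff_eq_mul.1 (congrArg Subtype.val hx)
      obtain ⟨k, hk⟩ := R.isPGroup'.map N.subtype x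
      have hdvd : orderOf x.1 ∣ r ^ k := orderOf_dvd_of_pow_eq_one (congrArg Subtype.val hk :)
      obtain ⟨j, -, hj⟩ := (Nat.dvd_prime_pow Fact.out).1 hdvd
      rcases Nat.eq_zero_or_pos j with rfl | hjpos
      · exact hx1 (Subtype.ext (orderOf_eq_one_iff.1 (by rw [hj, pow_zero])))
      · set z := x.1 ^ (r ^ (j - 1)) with hz
        have hzo : orderOf z = r := by
          have hdiv : r ^ (j - 1) ∣ orderOf x.1 := hj ▸ pow_dvd_pow r (Nat.sub_le _ _)
          rw [hz, orderOf_pow_of_dvd (pow_ne_zero _ (Fact.out : r.Prime).ne_zero) hdiv, hj,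
            Nat.pow_div (Nat.sub_le _ _) (Fact.out : r.Prime).pos,
            show j - (j - 1) = 1 by omega, pow_one]
        refine hiso (y * z) ?_
        rw [(hc.pow_right _).orderOf_mul_eq_mul_orderOf_of_coprime
          (by rw [hyo, hzo]; exact (Nat.coprime_primes Fact.out Fact.out).2 hne), hyo, hzo]
    · rintro rfl
      apply Subtype.ext
      show y * 1 * y⁻¹ = 1
      simp
  rw [hfix, Finset.card_singleton, ← Nat.card_eq_fintype_card, Subgroup.card_subtype] at h
  exact h.symm

theorem dvd_of_normal (N : Subgroup Cfsg.Spor.J1) [N.Normal] {p : ℕ} (hp : p.Prime)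
    (hpG : p ∣ Nat.card Cfsg.Spor.J1)
    (hiso : ∀ r : ℕ, r.Prime → r ≠ p → ∀ g : Cfsg.Spor.J1, orderOf g ≠ p * r)
    (hparts : ∀ r ∈ [2, 3, 5, 7, 11, 19], ∀ e ∈ List.range 4, r ^ e ∣ 175560 →
      r ^ e % p = 1 → (e = 0 ∨ r = p)) (hN : N ≠ ⊥) : p ∣ Nat.card N := by
  by_contra hpN
  haveI := Fact.mk hp
  refine hN (Subgroup.eq_bot_of_card_eq N ?_)
  by_contra h1
  obtain ⟨r, hr, hrN⟩ := Nat.exists_prime_and_dvd h1
  haveI := Fact.mk hr
  have hrp : r ≠ p := fun h => hpN (h ▸ hrN)
  obtain ⟨R⟩ : Nonempty (Sylow r N) := inferInstance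
  have hmod := part_modEq hrp.symm (hiso r hr hrp) N hpG hpN R
  obtain ⟨e, he⟩ := (IsPGroup.iff_card).1 R.isPGroup'
  have hRpos : 0 < e := by
    rcases Nat.eq_zero_or_pos e with rfl | h
    · exact absurd (Subgroup.eq_bot_of_card_eq _ (he.trans (pow_zero r))) (R.ne_bot_of_dvd_card hrN)
    · exact h
  have hdvd : r ^ e ∣ 175560 := by
    rw [← he, ← natCard_J1]
    exact (Subgroup.card_subgroup_dvd_card _).trans (Subgroup.card_subgroup_dvd_card N)
  have hrdvd : r ∣ 175560 := (dvd_pow_self r hRpos.ne').trans hdvd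
  have hrmem : r ∈ [2, 3, 5, 7, 11, 19] := by
    have : r ∈ Nat.primeFactorsList 175560 := (Nat.mem_primeFactorsList (by norm_num)).2 ⟨hr, hrdvd⟩
    revert this
    simp
  have he4 : e < 4 := by
    by_contra h
    have h16 : r ^ 4 ∣ 175560 := (pow_dvd_pow r (not_lt.1 h)).trans hdvd
    simp only [List.mem_cons, List.not_mem_nil, or_false] at hrmem
    rcases hrmem with rfl | rfl | rfl | rfl | rfl | rfl <;> norm_num at h16
  have hm : r ^ e % p = 1 := by
    have := hmod
    rw [he, Nat.ModEq, Nat.mod_eq_of_lt hp.one_lt] at this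
    exact this
  rcases hparts r hrmem e (List.mem_range.2 he4) hdvd hm with h | h
  · omega
  · exact hrp h

theorem mem_of_dvd (N : Subgroup Cfsg.Spor.J1) [N.Normal] {p : ℕ} (hp : p.Prime)
    (hsq : ¬ p * p ∣ 175560) (hpN : p ∣ Nat.card N) (g : Cfsg.Spor.J1) (hg : orderOf g = p) :
    g ∈ N := by
  haveI := Fact.mk hp
  rw [← QuotientGroup.eq_one_iff]
  rcases (Nat.dvd_prime hp).1 ((hg ▸ orderOf_map_dvd (QuotientGroup.mk' N) g) :
      orderOf (g : Cfsg.Spor.J1 ⧸ N) ∣ p) with h | h
  · exact orderOf_eq_one_iff.1 h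
  · exfalso
    have hi : p ∣ N.index := by
      rw [Subgroup.index_eq_card, ← h]; exact orderOf_dvd_natCard _
    apply hsq
    rw [← natCard_J1, ← Subgroup.card_mul_index N]
    exact mul_dvd_mul hpN hi

theorem word19_mem : Cfsg.Spor.jankoX ^ 3 * Cfsg.Spor.jankoY ∈ Cfsg.Spor.J1 :=
  Subgroup.mul_mem _ (Subgroup.pow_mem _ (Subgroup.subset_closure (by simp)) 3)
    (Subgroup.subset_closure (by simp))

theorem orderOf_word19 : orderOf (Cfsg.Spor.jankoX ^ 3 * Cfsg.Spor.jankoY) = 19 := by
  haveI := Fact.mk (show Nat.Prime 19 by norm_num)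
  exact orderOf_eq_prime (by decide +kernel) (by decide +kernel)

theorem orderOf_jankoX : orderOf Cfsg.Spor.jankoX = 7 := by
  haveI := Fact.mk (show Nat.Prime 7 by norm_num)
  exact orderOf_eq_prime (by decide +kernel) (by decide +kernel)

theorem isSimpleGroup_J1 : IsSimpleGroup Cfsg.Spor.J1 := by
  haveI : Nontrivial Cfsg.Spor.J1 := Finite.one_lt_card_iff_nontrivial.1 (by rw [natCard_J1]; norm_num)
  refine ⟨fun N hN => ?_⟩
  by_cases h : N = ⊥
  · exact Or.inl h
  right
  have iso : ∀ p ∈ [7, 19], ∀ r : ℕ, r.Prime → r ≠ p → ∀ g : Cfsg.Spor.J1, orderOf g ≠ p * r := by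
    intro p hp r hr hrp g hg
    have hmem := orderOf_mem g
    rw [hg] at hmem
    have h2 := hr.two_le
    simp only [List.mem_cons, List.not_mem_nil, or_false] at hp
    simp only [Set.mem_insert_iff, Set.mem_singleton_iff] at hmem
    rcases hp with rfl | rfl <;> omega
  have h7 : 7 ∣ Nat.card N → ∀ g : Cfsg.Spor.J1, orderOf g = 7 → g ∈ N :=
    fun hd g hg => mem_of_dvd N (by norm_num) (by norm_num) hd g hg
  have h19 := dvd_of_normal N (p := 19) (by norm_num)
    (by rw [natCard_J1]; norm_num) (iso 19 (by simp)) (by decide) h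
  have hx19 : (⟨_, word19_mem⟩ : Cfsg.Spor.J1) ∈ N :=
    mem_of_dvd N (by norm_num) (by norm_num) h19 _
      ((Subgroup.orderOf_coe _).symm.trans orderOf_word19)
  have h7d : 7 ∣ Nat.card N := by
    by_contra h7n
    haveI := Fact.mk (show Nat.Prime 7 by norm_num)
    haveI := Fact.mk (show Nat.Prime 19 by norm_num)
    obtain ⟨R⟩ : Nonempty (Sylow 19 N) := inferInstance
    have hmod := part_modEq (p := 7) (r := 19) (by norm_num)
      (iso 7 (by simp) 19 (by norm_num) (by norm_num)) N (by rw [natCard_J1]; norm_num) h7n R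
    obtain ⟨e, he⟩ := (IsPGroup.iff_card).1 R.isPGroup'
    have hdvd : 19 ^ e ∣ 175560 := by
      rw [← he, ← natCard_J1]
      exact (Subgroup.card_subgroup_dvd_card _).trans (Subgroup.card_subgroup_dvd_card N)
    rw [he] at hmod
    have h1 : e ≠ 0 := fun h0 => R.ne_bot_of_dvd_card h19
      (Subgroup.eq_bot_of_card_eq _ (by rw [he, h0, pow_zero]))
    have h2 : e < 2 := by
      by_contra h2
      have := (pow_dvd_pow 19 (not_lt.1 h2)).trans hdvd
      norm_num at this
    obtain rfl : e = 1 := by omega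
    norm_num [Nat.ModEq] at hmod
  have hX : (⟨Cfsg.Spor.jankoX, Subgroup.subset_closure (by simp)⟩ : Cfsg.Spor.J1) ∈ N :=
    h7 h7d _ ((Subgroup.orderOf_coe _).symm.trans orderOf_jankoX)
  have hY : (⟨Cfsg.Spor.jankoY, Subgroup.subset_closure (by simp)⟩ : Cfsg.Spor.J1) ∈ N := by
    have := N.mul_mem (N.inv_mem (N.pow_mem hX 3)) hx19
    convert this using 1
    apply Subtype.ext
    show Cfsg.Spor.jankoY = (Cfsg.Spor.jankoX ^ 3)⁻¹ * (Cfsg.Spor.jankoX ^ 3 * Cfsg.Spor.jankoY)
    rw [inv_mul_cancel_left]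
  rw [eq_top_iff]
  rintro ⟨g, hg⟩ -
  have key : ∀ x ∈ Cfsg.Spor.J1, x ∈ N.map Cfsg.Spor.J1.subtype := by
    intro x hx
    refine (Subgroup.closure_le _).2 ?_ hx
    rintro y (rfl | rfl)
    · exact ⟨_, hX, rfl⟩
    · exact ⟨_, hY, rfl⟩
  obtain ⟨y, hy, hyg⟩ := key g hg
  rwa [show (⟨g, hg⟩ : Cfsg.Spor.J1) = y from Subtype.ext hyg.symm]

end Cfsg.Agent.Lib.J1.Order
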