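import Cfsg.Agent.Lib.J1.Data

/-!
Kernel checks of the tables.
-/

set_option autoImplicit false

namespace Cfsg.Agent.Lib.J1.Checks

open Cfsg.Agent.Lib.J1.Packed Cfsg.Agent.Lib.J1.Data

/-- Lookup in a table stored in pieces of 32. -/
def look {α : Type} (L : List (List α)) (d : α) (n : ℕ) : α := (L.getD (n / 32) []).getD (n % 32) d

/-- An element of the subgroup. -/
def el (n : ℕ) : P7 := look subElems one n

/-- A representative. -/
def rep (i : ℕ) : P7 := look reps one i

/-- A double coset representative. -/
def drep (b : ℕ) : P7 := rep (dblReps.getD b 0)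

/-- Indices for left multiplication in the subgroup. -/
def actIdx (n : ℕ) : ℕ × ℕ := look subAct (0, 0) n

/-- Indices of the tree. -/
def treeIdx (n : ℕ) : ℕ × ℕ := look subTree (0, 0) n

/-- Indices for left multiplication of cosets. -/
def cosIdx (i : ℕ) : (ℕ × ℕ) × ℕ × ℕ := look cosAct ((0, 0), 0, 0) i

/-- Indices for the double cosets. -/
def dblIdx (i : ℕ) : ℕ × ℕ × ℕ := look dblCos (0, 0, 0) i

/-- All tables hold reduced matrices. -/
def wfOk : Bool :=
  wfb genX && wfb genY && wfb subA && wfb subB && (List.range 660).all (fun n => wfb (el n)) &&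
    (List.range 266).all (fun i => wfb (rep i))

theorem wfOk_eq : wfOk = true := by decide +kernel

/-- The identity entries, and inverses of the subgroup generators. -/
def baseOk : Bool :=
  eqb (el 0) one && eqb (rep 0) one && eqb (mul subA subA) one &&
    eqb (mul subB (mul subB subB)) one && eqb (mul (mul subB subB) subB) one

theorem baseOk_eq : baseOk = true := by decide +kernel

/-- The tree reaches every element of the subgroup list. -/
def treeOk : Bool :=
  (List.range 659).all fun n =>
    Nat.blt (treeIdx (n + 1)).2 (n + 1) &&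
      eqb (el (n + 1)) (mul (cond (Nat.beq (treeIdx (n + 1)).1 0) subA subB) (el (treeIdx (n + 1)).2))

theorem treeOk_eq : treeOk = true := by decide +kernel

/-- The list is closed under the generators. -/
def actOk : Bool :=
  (List.range 660).all fun n =>
    Nat.blt (actIdx n).1 660 && Nat.blt (actIdx n).2 660 &&
      eqb (mul subA (el n)) (el (actIdx n).1) && eqb (mul subB (el n)) (el (actIdx n).2)

theorem actOk_eq : actOk = true := by decide +kernel

/-- The cosets are permuted by the generators. -/
def cosOk : Bool :=
  (List.range 266).all fun i =>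
    Nat.blt (cosIdx i).1.1 266 && Nat.blt (cosIdx i).1.2 660 && Nat.blt (cosIdx i).2.1 266 &&
      Nat.blt (cosIdx i).2.2 660 &&
      eqb (mul genX (rep i)) (mul (rep (cosIdx i).1.1) (el (cosIdx i).1.2)) &&
      eqb (mul genY (rep i)) (mul (rep (cosIdx i).2.1) (el (cosIdx i).2.2))

theorem cosOk_eq : cosOk = true := by decide +kernel

/-- Every representative lies in one of five double cosets. -/
def dblOk : Bool :=
  (List.range 266).all fun i =>
    Nat.blt (dblIdx i).1 660 && Nat.blt (dblIdx i).2.1 5 && Nat.blt (dblIdx i).2.2 660 &&
      eqb (rep i) (mul (mul (el (dblIdx i).1) (drep (dblIdx i).2.1)) (el (dblIdx i).2.2))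

theorem dblOk_eq : dblOk = true := by decide +kernel

/-- Evaluate a matrix before it is used. -/
def forceP {α : Type} (a : P7) (k : P7 → α) : α :=
  match a with
  | ⟨x0, x1, x2, x3, x4, x5, x6⟩ => k ⟨x0, x1, x2, x3, x4, x5, x6⟩

theorem forceP_eq {α : Type} (a : P7) (k : P7 → α) : forceP a k = k a := rfl

/-- Some power in a fixed list is the identity. -/
def good (m : P7) : Bool :=
  forceP m fun m => forceP (mul m m) fun p2 => eqb p2 one ||
    forceP (mul p2 m) fun p3 => eqb p3 one ||
    forceP (mul p2 p3) fun p5 => eqb p5 one ||
    forceP (mul p3 p3) fun p6 => eqb p6 one ||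
    forceP (mul p6 m) fun p7 => eqb p7 one ||
    forceP (mul p5 p5) fun p10 => eqb p10 one ||
    forceP (mul p10 m) fun p11 => eqb p11 one ||
    forceP (mul p10 p5) fun p15 => eqb p15 one ||
    forceP (mul p15 p2) fun p17 => forceP (mul p17 p2) fun p19 => eqb p19 one

/-- The orders in one double coset. -/
def ordOk (b : ℕ) : Bool := (List.range 660).all fun n => good (mul (drep b) (el n))

theorem ordOk_zero : ordOk 0 = true := by decide +kernel

theorem ordOk_one : ordOk 1 = true := by decide +kernel

theorem ordOk_two : ordOk 2 = true := by decide +kernel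

theorem ordOk_three : ordOk 3 = true := by decide +kernel

theorem ordOk_four : ordOk 4 = true := by decide +kernel

end Cfsg.Agent.Lib.J1.Checks
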