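import Cfsg.Prelude.Def_Spor_J1
import Cfsg.Agent.Lib.J1.Checks

/-!
Element orders in the first Janko group.
-/

set_option autoImplicit false

namespace Cfsg.Agent.Lib.J1.Spectrum

open Matrix Cfsg.Agent.Lib.J1.Packed Cfsg.Agent.Lib.J1.Data Cfsg.Agent.Lib.J1.Checks

theorem wf_facts : Wf genX ∧ Wf genY ∧ Wf subA ∧ Wf subB ∧ (∀ n < 660, Wf (el n)) ∧
    ∀ i < 266, Wf (rep i) := by
  have h := wfOk_eq
  simp only [wfOk, Bool.and_eq_true, List.all_eq_true, List.mem_range] at h
  obtain ⟨⟨⟨⟨⟨h1, h2⟩, h3⟩, h4⟩, h5⟩, h6⟩ := h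
  exact ⟨wf_of_wfb h1, wf_of_wfb h2, wf_of_wfb h3, wf_of_wfb h4, fun n hn => wf_of_wfb (h5 n hn),
    fun i hi => wf_of_wfb (h6 i hi)⟩

theorem toMat_el_zero : toMat (el 0) = 1 := by
  have h := baseOk_eq
  simp only [baseOk, Bool.and_eq_true] at h
  rw [eq_of_eqb h.1.1.1.1, toMat_one]

theorem toMat_rep_zero : toMat (rep 0) = 1 := by
  have h := baseOk_eq
  simp only [baseOk, Bool.and_eq_true] at h
  rw [eq_of_eqb h.1.1.1.2, toMat_one]

theorem isUnit_subGens : IsUnit (toMat subA) ∧ IsUnit (toMat subB) := by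
  obtain ⟨-, -, hA, hB, -, -⟩ := wf_facts
  have h := baseOk_eq
  simp only [baseOk, Bool.and_eq_true] at h
  obtain ⟨⟨⟨-, hAA⟩, hBB⟩, hBB'⟩ := h
  have a1 := congrArg toMat (eq_of_eqb hAA)
  have b1 := congrArg toMat (eq_of_eqb hBB)
  have b2 := congrArg toMat (eq_of_eqb hBB')
  rw [toMat_mul hA hA, toMat_one] at a1
  rw [toMat_mul hB (wf_mul _ _), toMat_one] at b1
  rw [toMat_mul (wf_mul _ _) hB, toMat_one] at b2
  exact ⟨⟨⟨_, _, a1, a1⟩, rfl⟩, ⟨⟨_, toMat (mul subB subB), b1, b2⟩, rfl⟩⟩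

theorem tree_step (n : ℕ) (hn : n + 1 < 660) :
    ∃ (g : P7) (m : ℕ), (g = subA ∨ g = subB) ∧ m < n + 1 ∧
      toMat (el (n + 1)) = toMat g * toMat (el m) := by
  obtain ⟨-, -, hA, hB, hel, -⟩ := wf_facts
  have h := treeOk_eq
  simp only [treeOk, List.all_eq_true, List.mem_range, Bool.and_eq_true] at h
  obtain ⟨h1, h2⟩ := h n (by omega)
  have h1' : (treeIdx (n + 1)).2 < n + 1 := by simpa using h1
  refine ⟨cond (Nat.beq (treeIdx (n + 1)).1 0) subA subB, _, ?_, h1', ?_⟩
  · cases Nat.beq (treeIdx (n + 1)).1 0 <;> simp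
  · rw [eq_of_eqb h2, toMat_mul _ (hel _ (by omega))]
    cases Nat.beq (treeIdx (n + 1)).1 0
    · exact hB
    · exact hA

theorem isUnit_el : ∀ n < 660, IsUnit (toMat (el n)) := by
  intro n
  induction n using Nat.strong_induction_on with
  | _ n ih =>
    intro hn
    rcases n with _ | n
    · rw [toMat_el_zero]; exact isUnit_one
    · obtain ⟨g, m, hg, hm, he⟩ := tree_step n hn
      rw [he]
      refine IsUnit.mul ?_ (ih m hm (by omega))
      rcases hg with rfl | rfl
      · exact isUnit_subGens.1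
      · exact isUnit_subGens.2

theorem act_step (g : P7) (hg : g = subA ∨ g = subB) (n : ℕ) (hn : n < 660) :
    ∃ k < 660, toMat g * toMat (el n) = toMat (el k) := by
  obtain ⟨-, -, hA, hB, hel, -⟩ := wf_facts
  have h := actOk_eq
  simp only [actOk, List.all_eq_true, List.mem_range, Bool.and_eq_true] at h
  obtain ⟨⟨⟨h1, h2⟩, h3⟩, h4⟩ := h n hn
  rcases hg with rfl | rfl
  · exact ⟨_, by simpa using h1, by rw [← toMat_mul hA (hel n hn), eq_of_eqb h3]⟩
  · exact ⟨_, by simpa using h2, by rw [← toMat_mul hB (hel n hn), eq_of_eqb h4]⟩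

theorem el_closed : ∀ n < 660, ∀ m < 660, ∃ k < 660, toMat (el n) * toMat (el m) = toMat (el k) := by
  intro n
  induction n using Nat.strong_induction_on with
  | _ n ih =>
    intro hn m hm
    rcases n with _ | n
    · exact ⟨m, hm, by rw [toMat_el_zero, one_mul]⟩
    · obtain ⟨g, j, hg, hj, he⟩ := tree_step n hn
      obtain ⟨k, hk, hk'⟩ := ih j hj (by omega) m hm
      obtain ⟨k', hk'', hk3⟩ := act_step g hg k hk
      exact ⟨k', hk'', by rw [he, mul_assoc, hk', hk3]⟩

theorem toMat_genX : toMat genX = Cfsg.jankoMatrixX := by decide +kernel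

theorem toMat_genY : toMat genY = Cfsg.jankoMatrixY := by decide +kernel

theorem gen_step (g : P7) (hg : g = genX ∨ g = genY) (i : ℕ) (hi : i < 266) :
    ∃ j < 266, ∃ c < 660, toMat g * toMat (rep i) = toMat (rep j) * toMat (el c) := by
  obtain ⟨hX, hY, -, -, hel, hrep⟩ := wf_facts
  have h := cosOk_eq
  simp only [cosOk, List.all_eq_true, List.mem_range, Bool.and_eq_true] at h
  obtain ⟨⟨⟨⟨⟨h1, h2⟩, h3⟩, h4⟩, h5⟩, h6⟩ := h i hi
  simp only [Nat.blt_eq] at h1 h2 h3 h4
  rcases hg with rfl | rfl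
  · exact ⟨_, h1, _, h2, by
      rw [← toMat_mul hX (hrep i hi), eq_of_eqb h5, toMat_mul (hrep _ h1) (hel _ h2)]⟩
  · exact ⟨_, h3, _, h4, by
      rw [← toMat_mul hY (hrep i hi), eq_of_eqb h6, toMat_mul (hrep _ h3) (hel _ h4)]⟩

theorem exists_rep {g : GL (Fin 7) (ZMod 11)} (hg : g ∈ Cfsg.Spor.J1) :
    ∃ i < 266, ∃ k < 660, g.1 = toMat (rep i) * toMat (el k) := by
  have hg' : g ∈ Submonoid.closure
      ({Cfsg.Spor.jankoX, Cfsg.Spor.jankoY} : Set (GL (Fin 7) (ZMod 11))) := by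
    rwa [← Subgroup.closure_toSubmonoid_of_finite, Subgroup.mem_toSubmonoid]
  induction hg' using Submonoid.closure_induction_left with
  | one => exact ⟨0, by norm_num, 0, by norm_num, by rw [toMat_rep_zero, toMat_el_zero, one_mul, Units.val_one]⟩
  | mul_left z hz w hw ih =>
    obtain ⟨i, hi, k, hk, he⟩ := ih (by
      rw [Cfsg.Spor.J1, ← Subgroup.mem_toSubmonoid, Subgroup.closure_toSubmonoid_of_finite]; exact hw)
    obtain ⟨gp, hgp, hz'⟩ : ∃ gp, (gp = genX ∨ gp = genY) ∧ z.1 = toMat gp := by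
      rcases hz with rfl | rfl
      · exact ⟨_, Or.inl rfl, toMat_genX.symm⟩
      · exact ⟨_, Or.inr rfl, toMat_genY.symm⟩
    obtain ⟨j, hj, c, hc, hjc⟩ := gen_step gp hgp i hi
    obtain ⟨k', hk', hck⟩ := el_closed c hc k hk
    exact ⟨j, hj, k', hk', by rw [Units.val_mul, he, hz', ← mul_assoc, hjc, mul_assoc, hck]⟩

theorem ordOk_of_lt (b : ℕ) (hb : b < 5) : ordOk b = true := by
  interval_cases b
  exacts [ordOk_zero, ordOk_one, ordOk_two, ordOk_three, ordOk_four]

theorem good_spec {m : P7} (hm : Wf m) (h : good m = true) :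
    ∃ n ∈ [2, 3, 5, 6, 7, 10, 11, 15, 19], toMat m ^ n = 1 := by
  set p2 := mul m m with hp2
  set p3 := mul p2 m with hp3
  set p5 := mul p2 p3 with hp5
  set p6 := mul p3 p3 with hp6
  set p7 := mul p6 m with hp7
  set p10 := mul p5 p5 with hp10
  set p11 := mul p10 m with hp11
  set p15 := mul p10 p5 with hp15
  set p17 := mul p15 p2 with hp17
  set p19 := mul p17 p2 with hp19
  have e2 : toMat p2 = toMat m ^ 2 := by rw [hp2, toMat_mul hm hm, sq]
  have w2 : Wf p2 := wf_mul _ _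
  have e3 : toMat p3 = toMat m ^ 3 := by rw [hp3, toMat_mul w2 hm, e2, ← pow_succ]
  have w3 : Wf p3 := wf_mul _ _
  have e5 : toMat p5 = toMat m ^ 5 := by rw [hp5, toMat_mul w2 w3, e2, e3, ← pow_add]
  have w5 : Wf p5 := wf_mul _ _
  have e6 : toMat p6 = toMat m ^ 6 := by rw [hp6, toMat_mul w3 w3, e3, ← pow_add]
  have w6 : Wf p6 := wf_mul _ _
  have e7 : toMat p7 = toMat m ^ 7 := by rw [hp7, toMat_mul w6 hm, e6, ← pow_succ]
  have e10 : toMat p10 = toMat m ^ 10 := by rw [hp10, toMat_mul w5 w5, e5, ← pow_add]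
  have w10 : Wf p10 := wf_mul _ _
  have e11 : toMat p11 = toMat m ^ 11 := by rw [hp11, toMat_mul w10 hm, e10, ← pow_succ]
  have e15 : toMat p15 = toMat m ^ 15 := by rw [hp15, toMat_mul w10 w5, e10, e5, ← pow_add]
  have w15 : Wf p15 := wf_mul _ _
  have e17 : toMat p17 = toMat m ^ 17 := by rw [hp17, toMat_mul w15 w2, e15, e2, ← pow_add]
  have w17 : Wf p17 := wf_mul _ _
  have e19 : toMat p19 = toMat m ^ 19 := by rw [hp19, toMat_mul w17 w2, e17, e2, ← pow_add]
  simp only [good, forceP_eq, Bool.or_eq_true] at h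
  rw [← hp2, ← hp3, ← hp5, ← hp6, ← hp7, ← hp10, ← hp11, ← hp15, ← hp17, ← hp19] at h
  have fin : ∀ p n, eqb p one = true → toMat p = toMat m ^ n → toMat m ^ n = 1 := by
    intro p n hp he
    rw [← he, eq_of_eqb hp, toMat_one]
  rcases h with h | h | h | h | h | h | h | h | h
  exacts [⟨2, by simp, fin _ _ h e2⟩, ⟨3, by simp, fin _ _ h e3⟩, ⟨5, by simp, fin _ _ h e5⟩,
    ⟨6, by simp, fin _ _ h e6⟩, ⟨7, by simp, fin _ _ h e7⟩, ⟨10, by simp, fin _ _ h e10⟩,
    ⟨11, by simp, fin _ _ h e11⟩, ⟨15, by simp, fin _ _ h e15⟩, ⟨19, by simp, fin _ _ h e19⟩]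

theorem pow_eq_one_of_rotate {R : Type*} [Monoid R] {a b : R} (ha : IsUnit a) {n : ℕ}
    (h : (b * a) ^ n = 1) : (a * b) ^ n = 1 := by
  have hc : ∀ m : ℕ, (a * b) ^ m * a = a * (b * a) ^ m := by
    intro m
    induction m with
    | zero => simp
    | succ n ih =>
      rw [pow_succ, pow_succ', mul_assoc, mul_assoc a b a, ← mul_assoc, ih, mul_assoc, ← pow_succ,
        pow_succ']
  have hn := hc n
  rw [h, mul_one] at hn
  exact ha.mul_right_cancel (hn.trans (one_mul a).symm)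

theorem pow_eq_one_cases {g : GL (Fin 7) (ZMod 11)} (hg : g ∈ Cfsg.Spor.J1) :
    ∃ n ∈ [2, 3, 5, 6, 7, 10, 11, 15, 19], g ^ n = 1 := by
  obtain ⟨-, -, -, -, hel, hrep⟩ := wf_facts
  obtain ⟨i, hi, k, hk, he⟩ := exists_rep hg
  have h := dblOk_eq
  simp only [dblOk, List.all_eq_true, List.mem_range, Bool.and_eq_true] at h
  obtain ⟨⟨⟨ha, hb⟩, hc⟩, hd⟩ := h i hi
  simp only [Nat.blt_eq] at ha hb hc
  set a := (dblIdx i).1
  set b := (dblIdx i).2.1
  set c := (dblIdx i).2.2
  have hdrep : Wf (drep b) := hrep _ (by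
    have : ∀ b < 5, dblReps.getD b 0 < 266 := by decide
    exact this b hb)
  have hr : toMat (rep i) = toMat (el a) * toMat (drep b) * toMat (el c) := by
    rw [eq_of_eqb hd, toMat_mul (wf_mul _ _) (hel c hc), toMat_mul (hel a ha) hdrep]
  obtain ⟨l1, hl1, e1⟩ := el_closed c hc k hk
  obtain ⟨l, hl, e2⟩ := el_closed l1 hl1 a ha
  have hord := ordOk_of_lt b hb
  simp only [ordOk, List.all_eq_true, List.mem_range] at hord
  obtain ⟨n, hn, hpow⟩ := good_spec (wf_mul _ _) (hord l hl)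
  refine ⟨n, hn, Units.ext ?_⟩
  rw [Units.val_pow_eq_pow_val, he, hr, Units.val_one, mul_assoc, mul_assoc, e1]
  refine pow_eq_one_of_rotate (isUnit_el a ha) ?_
  rw [mul_assoc, e2, ← toMat_mul hdrep (hel l hl)]
  exact hpow

/-- Every element order. -/
theorem orderOf_mem (g : Cfsg.Spor.J1) :
    orderOf g ∈ ({1, 2, 3, 5, 6, 7, 10, 11, 15, 19} : Set ℕ) := by
  obtain ⟨n, hn, h⟩ := pow_eq_one_cases g.2
  have hd : orderOf g ∣ n := by
    rw [← Subgroup.orderOf_coe]; exact orderOf_dvd_of_pow_eq_one h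
  generalize orderOf g = d at hd
  simp only [List.mem_cons, List.not_mem_nil, or_false] at hn
  rcases hn with rfl | rfl | rfl | rfl | rfl | rfl | rfl | rfl | rfl <;>
    · have := Nat.le_of_dvd (by norm_num) hd
      interval_cases d <;> simp_all

/-- The value of a word. -/
def wordP : List Bool → P7
  | [] => one
  | b :: w => mul (cond b genY genX) (wordP w)

/-- Powers. -/
def powP (m : P7) : ℕ → P7
  | 0 => one
  | n + 1 => mul (powP m n) m

theorem wf_wordP : ∀ w, Wf (wordP w)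
  | [] => wf_one
  | _ :: _ => wf_mul _ _

theorem wf_powP (m : P7) : ∀ n, Wf (powP m n)
  | 0 => wf_one
  | _ + 1 => wf_mul _ _

theorem toMat_powP {m : P7} (hm : Wf m) : ∀ n, toMat (powP m n) = toMat m ^ n
  | 0 => by rw [powP, toMat_one, pow_zero]
  | n + 1 => by rw [powP, toMat_mul (wf_powP m n) hm, toMat_powP hm n, pow_succ]

theorem exists_word (w : List Bool) :
    ∃ g : GL (Fin 7) (ZMod 11), g ∈ Cfsg.Spor.J1 ∧ g.1 = toMat (wordP w) := by
  obtain ⟨hX, hY, -, -, -, -⟩ := wf_facts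
  induction w with
  | nil => exact ⟨1, Subgroup.one_mem _, by rw [wordP, toMat_one, Units.val_one]⟩
  | cons b w ih =>
    obtain ⟨g, hg, he⟩ := ih
    cases b
    · refine ⟨Cfsg.Spor.jankoX * g, Subgroup.mul_mem _ (Subgroup.subset_closure (by simp)) hg, ?_⟩
      rw [wordP, Units.val_mul, he, toMat_mul (by exact hX) (wf_wordP w)]
      exact congrArg (· * _) toMat_genX.symm
    · refine ⟨Cfsg.Spor.jankoY * g, Subgroup.mul_mem _ (Subgroup.subset_closure (by simp)) hg, ?_⟩
      rw [wordP, Units.val_mul, he, toMat_mul (by exact hY) (wf_wordP w)]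
      exact congrArg (· * _) toMat_genY.symm

theorem exists_orderOf_word (w : List Bool) (n : ℕ) (hn : 0 < n)
    (h1 : eqb (powP (wordP w) n) one = true)
    (h2 : ∀ k < n, 0 < k → toMat (powP (wordP w) k) ≠ 1) :
    ∃ g : Cfsg.Spor.J1, orderOf g = n := by
  obtain ⟨g, hg, he⟩ := exists_word w
  refine ⟨⟨g, hg⟩, ?_⟩
  rw [← Subgroup.orderOf_coe, orderOf_eq_iff hn]
  refine ⟨Units.ext ?_, fun k hk hk0 h => h2 k hk hk0 ?_⟩
  · rw [Units.val_pow_eq_pow_val, he, ← toMat_powP (wf_wordP w), eq_of_eqb h1, toMat_one, Units.val_one]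
  · rw [toMat_powP (wf_wordP w), ← he, ← Units.val_pow_eq_pow_val, h, Units.val_one]

theorem exists_orderOf (n : ℕ) (hn : n ∈ ({1, 2, 3, 5, 6, 7, 10, 11, 15, 19} : Set ℕ)) :
    ∃ g : Cfsg.Spor.J1, orderOf g = n := by
  simp only [Set.mem_insert_iff, Set.mem_singleton_iff] at hn
  rcases hn with rfl | rfl | rfl | rfl | rfl | rfl | rfl | rfl | rfl | rfl
  · exact ⟨1, orderOf_one⟩
  · exact exists_orderOf_word [false, true, false, true, true, true, true] 2 (by norm_num) (by decide +kernel) (by decide +kernel)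
  · exact exists_orderOf_word [false, false, false, true, false, true, false, true] 3 (by norm_num) (by decide +kernel) (by decide +kernel)
  · exact exists_orderOf_word [true, true] 5 (by norm_num) (by decide +kernel) (by decide +kernel)
  · exact exists_orderOf_word [false, true, true, true] 6 (by norm_num) (by decide +kernel) (by decide +kernel)
  · exact exists_orderOf_word [false, false] 7 (by norm_num) (by decide +kernel) (by decide +kernel)
  · exact exists_orderOf_word [false, true] 10 (by norm_num) (by decide +kernel) (by decide +kernel)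
  · exact exists_orderOf_word [false, true, true] 11 (by norm_num) (by decide +kernel) (by decide +kernel)
  · exact exists_orderOf_word [false, false, true, true, false, true, false, true, true] 15 (by norm_num) (by decide +kernel) (by decide +kernel)
  · exact exists_orderOf_word [false, false, false, true] 19 (by norm_num) (by decide +kernel) (by decide +kernel)

/-- The spectrum. -/
theorem range_orderOf : Set.range (orderOf : Cfsg.Spor.J1 → ℕ) = {1, 2, 3, 5, 6, 7, 10, 11, 15, 19} :=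
  Set.Subset.antisymm (Set.range_subset_iff.2 orderOf_mem) fun n hn => exists_orderOf n hn

end Cfsg.Agent.Lib.J1.Spectrum
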