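import Mathlib

/-!
Seven by seven matrices over eleven elements, one natural number per row, ten bits per entry:
fast for the kernel.
-/

set_option autoImplicit false

namespace Cfsg.Agent.Lib.J1.Packed

open Matrix

/-- A matrix, one number per row. -/
structure P7 where
  /-- row 0 -/
  r0 : ℕ
  /-- row 1 -/
  r1 : ℕ
  /-- row 2 -/
  r2 : ℕ
  /-- row 3 -/
  r3 : ℕ
  /-- row 4 -/
  r4 : ℕ
  /-- row 5 -/
  r5 : ℕ
  /-- row 6 -/
  r6 : ℕ
  deriving Inhabited

/-- The rows as a function. -/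
def row (a : P7) : Fin 7 → ℕ := ![a.r0, a.r1, a.r2, a.r3, a.r4, a.r5, a.r6]

/-- The entry in place `j` of a row. -/
def digit (r j : ℕ) : ℕ := r / 1024 ^ j % 1024

/-- The matrix. -/
def toMat (a : P7) : Matrix (Fin 7) (Fin 7) (ZMod 11) :=
  Matrix.of fun i j => (digit (row a i) j.1 : ZMod 11)

/-- Reduce the seven entries of a row modulo eleven. -/
def red (R : ℕ) : ℕ :=
  R % 1024 % 11 + 1024 * (R / 1024 % 1024 % 11 + 1024 * (R / 1048576 % 1024 % 11 +
    1024 * (R / 1073741824 % 1024 % 11 + 1024 * (R / 1099511627776 % 1024 % 11 +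
      1024 * (R / 1125899906842624 % 1024 % 11 + 1024 * (R / 1152921504606846976 % 1024 % 11))))))

/-- A row times a matrix. -/
def mulRow (r : ℕ) (b : P7) : ℕ :=
  red (r % 1024 * b.r0 + r / 1024 % 1024 * b.r1 + r / 1048576 % 1024 * b.r2 +
    r / 1073741824 % 1024 * b.r3 + r / 1099511627776 % 1024 * b.r4 +
    r / 1125899906842624 % 1024 * b.r5 + r / 1152921504606846976 % 1024 * b.r6)

/-- Evaluate a number before it is used. -/
def force {α : Type} (n : ℕ) (k : ℕ → α) : α :=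
  match n with
  | 0 => k 0
  | m + 1 => k (m + 1)

theorem force_eq {α : Type} (n : ℕ) (k : ℕ → α) : force n k = k n := by cases n <;> rfl

/-- Product. -/
def mul (a b : P7) : P7 :=
  force (mulRow a.r0 b) fun x0 => force (mulRow a.r1 b) fun x1 => force (mulRow a.r2 b) fun x2 =>
    force (mulRow a.r3 b) fun x3 => force (mulRow a.r4 b) fun x4 => force (mulRow a.r5 b) fun x5 =>
      force (mulRow a.r6 b) fun x6 => ⟨x0, x1, x2, x3, x4, x5, x6⟩

theorem row_mul (a b : P7) (i : Fin 7) : row (mul a b) i = mulRow (row a i) b := by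
  simp only [mul, force_eq]
  fin_cases i <;> rfl

/-- Comparison. -/
def eqb (a b : P7) : Bool :=
  Nat.beq a.r0 b.r0 && Nat.beq a.r1 b.r1 && Nat.beq a.r2 b.r2 && Nat.beq a.r3 b.r3 &&
    Nat.beq a.r4 b.r4 && Nat.beq a.r5 b.r5 && Nat.beq a.r6 b.r6

theorem eq_of_eqb {a b : P7} (h : eqb a b = true) : a = b := by
  obtain ⟨a0, a1, a2, a3, a4, a5, a6⟩ := a
  obtain ⟨b0, b1, b2, b3, b4, b5, b6⟩ := b
  simp only [eqb, Bool.and_eq_true] at h
  obtain ⟨⟨⟨⟨⟨⟨h0, h1⟩, h2⟩, h3⟩, h4⟩, h5⟩, h6⟩ := h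
  rw [Nat.eq_of_beq_eq_true h0, Nat.eq_of_beq_eq_true h1, Nat.eq_of_beq_eq_true h2,
    Nat.eq_of_beq_eq_true h3, Nat.eq_of_beq_eq_true h4, Nat.eq_of_beq_eq_true h5,
    Nat.eq_of_beq_eq_true h6]

/-- The identity. -/
def one : P7 :=
  ⟨1, 1024, 1048576, 1073741824, 1099511627776, 1125899906842624, 1152921504606846976⟩

/-- All entries below eleven, nothing above the seventh. -/
def Wf (a : P7) : Prop := ∀ i, red (row a i) = row a i

/-- Boolean form of `Wf`. -/
def wfb (a : P7) : Bool :=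
  eqb a ⟨red a.r0, red a.r1, red a.r2, red a.r3, red a.r4, red a.r5, red a.r6⟩

theorem wf_of_wfb {a : P7} (h : wfb a = true) : Wf a := by
  intro i
  have h' := eq_of_eqb h
  conv_rhs => rw [h']
  fin_cases i <;> rfl

/-- Seven entries in one row. -/
def pack (x : Fin 7 → ℕ) : ℕ :=
  x 0 + 1024 * (x 1 + 1024 * (x 2 + 1024 * (x 3 + 1024 * (x 4 + 1024 * (x 5 + 1024 * x 6)))))

theorem digit_succ (r j : ℕ) : digit r (j + 1) = digit (r / 1024) j := by
  rw [digit, digit, pow_succ', Nat.div_div_eq_div_mul]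

theorem digit_cons_zero {x : ℕ} (hx : x < 1024) (r : ℕ) : digit (x + 1024 * r) 0 = x := by
  simp only [digit, pow_zero, Nat.div_one]
  omega

theorem digit_cons_succ {x : ℕ} (hx : x < 1024) (r j : ℕ) :
    digit (x + 1024 * r) (j + 1) = digit r j := by
  rw [digit_succ]
  congr 1
  omega

theorem digit_pack (x : Fin 7 → ℕ) (hx : ∀ j, x j < 1024) (j : Fin 7) :
    digit (pack x) j.1 = x j := by
  have h6 : digit (x 6) 0 = x 6 := by
    simp only [digit, pow_zero, Nat.div_one]
    exact Nat.mod_eq_of_lt (hx 6)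
  fin_cases j <;> simp [pack, digit_cons_zero, digit_cons_succ, hx, h6]

theorem pack_eq_sum (x : Fin 7 → ℕ) : pack x = ∑ k : Fin 7, x k * 1024 ^ k.1 := by
  simp [pack, Fin.sum_univ_seven]
  ring

theorem red_eq_pack (R : ℕ) : red R = pack fun k => digit R k.1 % 11 := by
  simp [red, pack, digit]

theorem digit_red (R : ℕ) (j : Fin 7) : digit (red R) j.1 = digit R j.1 % 11 := by
  rw [red_eq_pack, digit_pack]
  intro k
  exact (Nat.mod_lt _ (by norm_num)).trans (by norm_num)

theorem red_red (R : ℕ) : red (red R) = red R := by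
  rw [red_eq_pack (red R), red_eq_pack R]
  congr 1
  funext k
  rw [← red_eq_pack, digit_red, Nat.mod_mod]

theorem wf_mul (a b : P7) : Wf (mul a b) := fun i => by rw [row_mul]; exact red_red _

theorem digit_lt_of_wf {a : P7} (h : Wf a) (i j : Fin 7) : digit (row a i) j.1 < 11 := by
  rw [← h i, digit_red]
  exact Nat.mod_lt _ (by norm_num)

theorem row_eq_sum {r : ℕ} (h : red r = r) :
    r = ∑ j : Fin 7, digit r j.1 * 1024 ^ j.1 := by
  have hd : ∀ j : Fin 7, digit r j.1 % 11 = digit r j.1 := fun j => by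
    rw [← digit_red, h]
  conv_lhs => rw [← h, red_eq_pack, pack_eq_sum]
  exact Finset.sum_congr rfl fun j _ => by rw [hd]

theorem digit_sum (x : Fin 7 → ℕ) (hx : ∀ j, x j < 1024) (j : Fin 7) :
    digit (∑ k : Fin 7, x k * 1024 ^ k.1) j.1 = x j := by
  rw [← pack_eq_sum, digit_pack x hx]

theorem mulRow_eq (r : ℕ) (b : P7) :
    mulRow r b = red (∑ k : Fin 7, digit r k.1 * row b k) := by
  rw [Fin.sum_univ_seven]
  simp [mulRow, digit, row]

theorem toMat_mul {a b : P7} (ha : Wf a) (hb : Wf b) :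
    toMat (mul a b) = toMat a * toMat b := by
  ext i j
  have hbound : ∀ l : Fin 7, (∑ k : Fin 7, digit (row a i) k.1 * digit (row b k) l.1) < 1024 := by
    intro l
    have : ∀ k : Fin 7, digit (row a i) k.1 * digit (row b k) l.1 ≤ 100 := fun k =>
      Nat.mul_le_mul (Nat.le_of_lt_succ (digit_lt_of_wf ha i k))
        (Nat.le_of_lt_succ (digit_lt_of_wf hb k l))
    calc _ ≤ ∑ _k : Fin 7, 100 := Finset.sum_le_sum fun k _ => this k
      _ < 1024 := by simp
  have hsum : (∑ k : Fin 7, digit (row a i) k.1 * row b k) =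
      ∑ l : Fin 7, (∑ k : Fin 7, digit (row a i) k.1 * digit (row b k) l.1) * 1024 ^ l.1 := by
    simp_rw [Finset.sum_mul]
    rw [Finset.sum_comm]
    refine Finset.sum_congr rfl fun k _ => ?_
    simp_rw [mul_assoc, ← Finset.mul_sum]
    rw [← row_eq_sum (hb k)]
  show ((digit (row (mul a b) i) j.1 : ℕ) : ZMod 11) = _
  rw [row_mul, mulRow_eq, digit_red, ZMod.natCast_mod, hsum, digit_sum _ hbound]
  simp [toMat, Matrix.mul_apply, Nat.cast_sum]

theorem toMat_one : toMat one = 1 := by decide +kernel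

theorem wf_one : Wf one := wf_of_wfb (by decide +kernel)

end Cfsg.Agent.Lib.J1.Packed
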